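import Groth.Prelude.Def_ProCons
import Groth.Agent.SpecSp.Constr
import Mathlib.AlgebraicGeometry.Morphisms.FinitePresentation
import Mathlib.AlgebraicGeometry.Morphisms.QuasiSeparated

/-!
# Pro- and ind-constructible subsets of schemes through the constructible topology of affine opens
-/

set_option autoImplicit false
universe u v

open CategoryTheory AlgebraicGeometry Topology TopologicalSpace Set

namespace Groth.Agent.ProConsLib

section Top

variable {α : Type u} {β : Type v} [TopologicalSpace α] [TopologicalSpace β]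

theorem isLocallyConstructible_compl {s : Set α} (h : IsLocallyConstructible s) :
    IsLocallyConstructible sᶜ := fun x => by
  obtain ⟨U, hxU, hU, hs⟩ := h x
  exact ⟨U, hxU, hU, hs.compl⟩

theorem isPro_iff_isInd_compl {E : Set α} :
    ProCons.IsProConstructible E ↔ ProCons.IsIndConstructible Eᶜ := by
  refine forall_congr' fun x => exists_congr fun U => and_congr_right fun _ => and_congr_right fun _ => ?_
  constructor
  · rintro ⟨S, hS, h⟩
    refine ⟨compl '' S, ?_, ?_⟩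
    · rintro _ ⟨T, hT, rfl⟩; exact isLocallyConstructible_compl (hS T hT)
    · rw [← compl_sInter, ← h, preimage_compl]
  · rintro ⟨S, hS, h⟩
    refine ⟨compl '' S, ?_, ?_⟩
    · rintro _ ⟨T, hT, rfl⟩; exact isLocallyConstructible_compl (hS T hT)
    · rw [← compl_sUnion, ← h, preimage_compl, compl_compl]

theorem isInd_iff_isPro_compl {E : Set α} :
    ProCons.IsIndConstructible E ↔ ProCons.IsProConstructible Eᶜ := by
  rw [isPro_iff_isInd_compl, compl_compl]

variable [SpectralSpace α] [SpectralSpace β]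

theorem isOpen_cons_image {f : α → β} (hf : IsOpenEmbedding f) {T : Set α}
    (hT : IsOpen[constructibleTopology α] T) : IsOpen[constructibleTopology β] (f '' T) := by
  rw [@isOpen_iff_forall_mem_open β (constructibleTopology β) _]
  rintro _ ⟨x, hx, rfl⟩
  obtain ⟨U, V, hUo, hUc, hVo, hVc, hxUV, hsub⟩ := SpecSp.exists_basic_of_isOpen_cons hT hx
  refine ⟨f '' U \ f '' V, ?_, ?_, mem_image_of_mem f hxUV.1, fun h => ?_⟩
  · rw [← image_sdiff hf.injective]; exact image_mono hsub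
  · exact @IsOpen.sdiff β _ _ (constructibleTopology β)
      (SpecSp.isClopen_cons (hf.isOpenMap U hUo) (hUc.image hf.continuous)).2
      (SpecSp.isClopen_cons (hf.isOpenMap V hVo) (hVc.image hf.continuous)).1
  · exact hxUV.2 ((hf.injective.mem_set_image).1 h)

end Top

variable {X Y : Scheme.{u}}

theorem spectralSpace_affine (U : X.affineOpens) : SpectralSpace ↥U.1 := by
  have : IsAffine U.1.toScheme := U.2
  have h : SpectralSpace ↥U.1.toScheme := {}
  exact h

theorem spectralSpace_affine_set (U : X.affineOpens) : SpectralSpace ↥(U.1 : Set X) :=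
  spectralSpace_affine U

attribute [local instance] spectralSpace_affine spectralSpace_affine_set

theorem exists_affine_mem_subset {x : X} {W : Set X} (hW : IsOpen W) (hx : x ∈ W) :
    ∃ U : X.affineOpens, x ∈ U.1 ∧ (U.1 : Set X) ⊆ W := by
  obtain ⟨_, ⟨U, hU, rfl⟩, hxU, hsub⟩ := X.isBasis_affineOpens.exists_subset_of_mem_open hx hW
  exact ⟨⟨U, hU⟩, hxU, hsub⟩

/-- `E ∩ U` is open in the constructible topology of the affine open `U`. -/
def ConsOpenOn (U : X.affineOpens) (E : Set X) : Prop :=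
  IsOpen[constructibleTopology ↥U.1] (Subtype.val ⁻¹' E)

/-- `E ∩ U` is closed in the constructible topology of the affine open `U`. -/
def ConsClosedOn (U : X.affineOpens) (E : Set X) : Prop :=
  IsClosed[constructibleTopology ↥U.1] (Subtype.val ⁻¹' E)

theorem consClosedOn_iff (U : X.affineOpens) (E : Set X) :
    ConsClosedOn U E ↔ ConsOpenOn U Eᶜ := by
  unfold ConsClosedOn ConsOpenOn
  rw [preimage_compl]
  exact (@isOpen_compl_iff _ _ (constructibleTopology ↥U.1)).symm

/-- The map between affine opens. -/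
def rmap (f : X ⟶ Y) (V : X.affineOpens) (W : Y.affineOpens) (e : V.1 ≤ f ⁻¹ᵁ W.1) (x : ↥V.1) : ↥W.1 :=
  ⟨f.base x.1, e x.2⟩

theorem rmap_eq (f : X ⟶ Y) (V : X.affineOpens) (W : Y.affineOpens) (e : V.1 ≤ f ⁻¹ᵁ W.1) :
    rmap f V W e = (f.resLE W.1 V.1 e).base := by
  funext x
  apply Subtype.ext
  exact (congrArg (fun g : V.1.toScheme ⟶ Y => g.base x) (Scheme.Hom.resLE_comp_ι f e)).symm

theorem isSpectralMap_rmap (f : X ⟶ Y) (V : X.affineOpens) (W : Y.affineOpens) (e : V.1 ≤ f ⁻¹ᵁ W.1) :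
    IsSpectralMap (rmap f V W e) := by
  rw [rmap_eq]
  have : IsAffine V.1.toScheme := V.2
  have : IsAffine W.1.toScheme := W.2
  exact quasiCompact_iff_isSpectralMap.1 inferInstance

theorem isOpenEmbedding_rmap_id (V U : X.affineOpens) (h : V.1 ≤ U.1) :
    IsOpenEmbedding (rmap (𝟙 X) V U (by simpa using h)) :=
  (IsOpenEmbedding.inclusion h (V.1.isOpen.preimage continuous_subtype_val) :
    IsOpenEmbedding (Set.inclusion (show (V.1 : Set X) ⊆ U.1 from h)))

theorem isConstructible_image_rmap (f : X ⟶ Y) [LocallyOfFinitePresentation f] (V : X.affineOpens)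
    (W : Y.affineOpens) (e : V.1 ≤ f ⁻¹ᵁ W.1) {T : Set ↥V.1} (hT : IsConstructible T) :
    IsConstructible (rmap f V W e '' T) := by
  rw [rmap_eq]
  have : IsAffine V.1.toScheme := V.2
  have : IsAffine W.1.toScheme := W.2
  exact (f.resLE W.1 V.1 e).isConstructible_image hT

theorem consOpenOn_preimage (f : X ⟶ Y) (V : X.affineOpens) (W : Y.affineOpens)
    (e : V.1 ≤ f ⁻¹ᵁ W.1) {E : Set Y} (h : ConsOpenOn W E) : ConsOpenOn V (f.base ⁻¹' E) :=
  @IsOpen.preimage _ _ (constructibleTopology ↥V.1) (constructibleTopology ↥W.1) _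
    (SpecSp.continuous_cons_of_isSpectralMap (isSpectralMap_rmap f V W e)) _ h

theorem consOpenOn_of_cover {E : Set X} (U : X.affineOpens)
    (h : ∀ x ∈ U.1, ∃ V : X.affineOpens, x ∈ V.1 ∧ V.1 ≤ U.1 ∧ ConsOpenOn V E) :
    ConsOpenOn U E := by
  unfold ConsOpenOn
  rw [@isOpen_iff_forall_mem_open _ (constructibleTopology ↥U.1) _]
  intro x hx
  obtain ⟨V, hxV, hVU, hV⟩ := h x.1 x.2
  exact ⟨rmap (𝟙 X) V U (by simpa using hVU) '' (Subtype.val ⁻¹' E),
    by rintro _ ⟨y, hy, rfl⟩; exact hy,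
    isOpen_cons_image (isOpenEmbedding_rmap_id V U hVU) hV, ⟨⟨x.1, hxV⟩, hx, rfl⟩⟩

theorem consOpenOn_mono {E : Set X} {V U : X.affineOpens} (h : V.1 ≤ U.1) (hU : ConsOpenOn U E) :
    ConsOpenOn V E :=
  consOpenOn_preimage (𝟙 X) V U (by simpa using h) hU

theorem isInd_iff {E : Set X} :
    ProCons.IsIndConstructible E ↔ ∀ U : X.affineOpens, ConsOpenOn U E := by
  constructor
  · intro h U
    refine consOpenOn_of_cover U fun x hx => ?_
    obtain ⟨W, hW, hxW, S, hS, hE⟩ := h x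
    obtain ⟨V, hxV, hVsub⟩ := exists_affine_mem_subset (hW.inter U.1.isOpen) ⟨hxW, hx⟩
    refine ⟨V, hxV, fun y hy => (hVsub hy).2, ?_⟩
    have hVW : (V.1 : Set X) ⊆ W := fun y hy => (hVsub hy).1
    have hi : IsOpenEmbedding (Set.inclusion hVW) :=
      IsOpenEmbedding.inclusion hVW (V.1.isOpen.preimage continuous_subtype_val)
    have e : (Subtype.val ⁻¹' E : Set ↥V.1) =
        ⋃₀ ((fun T => Set.inclusion hVW ⁻¹' T) '' S) := by
      rw [sUnion_image, ← preimage_iUnion₂, ← sUnion_eq_biUnion, ← hE]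
      rfl
    unfold ConsOpenOn
    rw [e]
    refine @isOpen_sUnion _ (constructibleTopology ↥V.1) _ ?_
    rintro _ ⟨T, hT, rfl⟩
    have := ((hS T hT).preimage_of_isOpenEmbedding hi).isConstructible
    exact (SpecSp.isClopen_cons_of_isConstructible this).2
  · intro h x
    obtain ⟨U, hxU, -⟩ := exists_affine_mem_subset (X := X) isOpen_univ (mem_univ x)
    refine ⟨U.1, U.1.isOpen, hxU, {T | IsConstructible T ∧ T ⊆ Subtype.val ⁻¹' E},
      fun T hT => hT.1.isLocallyConstructible, ?_⟩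
    refine Subset.antisymm (fun y hy => ?_) (sUnion_subset fun T hT => hT.2)
    obtain ⟨K, L, hKo, hKc, hLo, hLc, hy', hsub⟩ :=
      SpecSp.exists_basic_of_isOpen_cons (h U) hy
    exact ⟨K \ L, ⟨(hKc.isConstructible hKo).sdiff (hLc.isConstructible hLo), hsub⟩, hy'⟩

theorem isPro_iff {E : Set X} :
    ProCons.IsProConstructible E ↔ ∀ U : X.affineOpens, ConsClosedOn U E := by
  rw [isPro_iff_isInd_compl, isInd_iff]
  exact forall_congr' fun U => (consClosedOn_iff U E).symm

theorem isLocallyConstructible_iff {E : Set X} :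
    IsLocallyConstructible E ↔ ∀ U : X.affineOpens, ConsOpenOn U E ∧ ConsClosedOn U E := by
  constructor
  · intro h U
    have := (h.preimage_of_isOpenEmbedding U.1.isOpen.isOpenEmbedding_subtypeVal).isConstructible
    exact ⟨(SpecSp.isClopen_cons_of_isConstructible this).2, (SpecSp.isClopen_cons_of_isConstructible this).1⟩
  · intro h x
    obtain ⟨U, hxU, -⟩ := exists_affine_mem_subset (X := X) isOpen_univ (mem_univ x)
    exact ⟨U.1, U.1.isOpen.mem_nhds hxU, U.1.isOpen, SpecSp.isConstructible_of_isClopen_cons ⟨(h U).2, (h U).1⟩⟩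

theorem isLocallyConstructible_iff_ind_pro {E : Set X} :
    IsLocallyConstructible E ↔ ProCons.IsIndConstructible E ∧ ProCons.IsProConstructible E := by
  rw [isInd_iff, isPro_iff, isLocallyConstructible_iff, forall_and]

theorem isInd_of_isOpen {E : Set X} (hE : IsOpen E) : ProCons.IsIndConstructible E :=
  isInd_iff.2 fun _ => SpecSp.isOpen_cons (hE.preimage continuous_subtype_val)

theorem isPro_univ : ProCons.IsProConstructible (univ : Set X) :=
  isPro_iff_isInd_compl.2 (by rw [compl_univ]; exact isInd_of_isOpen isOpen_empty)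

theorem isInd_preimage (f : X ⟶ Y) {E : Set Y} (h : ProCons.IsIndConstructible E) :
    ProCons.IsIndConstructible (f.base ⁻¹' E) := by
  refine isInd_iff.2 fun U => consOpenOn_of_cover U fun x hx => ?_
  obtain ⟨W, hxW, -⟩ := exists_affine_mem_subset (X := Y) isOpen_univ (mem_univ (f.base x))
  obtain ⟨V, hxV, hV⟩ := exists_affine_mem_subset (U.1.isOpen.inter (f ⁻¹ᵁ W.1).isOpen) ⟨hx, hxW⟩
  exact ⟨V, hxV, fun y hy => (hV hy).1,
    consOpenOn_preimage f V W (fun y hy => (hV hy).2) (isInd_iff.1 h W)⟩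

theorem isPro_preimage (f : X ⟶ Y) {E : Set Y} (h : ProCons.IsProConstructible E) :
    ProCons.IsProConstructible (f.base ⁻¹' E) := by
  rw [isPro_iff_isInd_compl, ← preimage_compl]
  exact isInd_preimage f (isPro_iff_isInd_compl.1 h)

theorem isInd_image (f : X ⟶ Y) [LocallyOfFinitePresentation f] {E : Set X}
    (h : ProCons.IsIndConstructible E) : ProCons.IsIndConstructible (f.base '' E) := by
  refine isInd_iff.2 fun W => ?_
  unfold ConsOpenOn
  rw [@isOpen_iff_forall_mem_open _ (constructibleTopology ↥W.1) _]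
  intro y hy
  obtain ⟨x, hxE, hxy⟩ := hy
  obtain ⟨V, hxV, hV⟩ := exists_affine_mem_subset (f ⁻¹ᵁ W.1).isOpen
    (show x ∈ f ⁻¹ᵁ W.1 by show f.base x ∈ W.1; rw [hxy]; exact y.2)
  obtain ⟨K, L, hKo, hKc, hLo, hLc, hmem, hsub⟩ :=
    SpecSp.exists_basic_of_isOpen_cons (isInd_iff.1 h V) (show (⟨x, hxV⟩ : ↥V.1) ∈ Subtype.val ⁻¹' E from hxE)
  refine ⟨rmap f V W hV '' (K \ L), ?_, ?_, ⟨x, hxV⟩, hmem, Subtype.ext hxy⟩
  · rintro _ ⟨z, hz, rfl⟩; exact ⟨z.1, hsub hz, rfl⟩
  · exact (SpecSp.isClopen_cons_of_isConstructible (isConstructible_image_rmap f V W hV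
      ((hKc.isConstructible hKo).sdiff (hLc.isConstructible hLo)))).2

/-- A compact subset of an open is covered by finitely many affine opens inside it. -/
theorem exists_finite_affine_cover {K W : Set X} (hK : IsCompact K) (hW : IsOpen W) (hKW : K ⊆ W) :
    ∃ t : Set X.affineOpens, t.Finite ∧ (∀ V ∈ t, (V.1 : Set X) ⊆ W) ∧ K ⊆ ⋃ V ∈ t, (V.1 : Set X) := by
  choose V hxV hV using fun x : K => exists_affine_mem_subset hW (hKW x.2)
  obtain ⟨s, hs⟩ := hK.elim_finite_subcover (fun x => ((V x).1 : Set X)) (fun x => (V x).1.isOpen)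
    (fun x hx => mem_iUnion.2 ⟨⟨x, hx⟩, hxV ⟨x, hx⟩⟩)
  refine ⟨V '' (↑s : Set K), s.finite_toSet.image V, ?_, ?_⟩
  · rintro _ ⟨x, _, rfl⟩; exact hV x
  · rw [biUnion_image]; exact hs

theorem isPro_image (f : X ⟶ Y) [QuasiCompact f] {E : Set X}
    (h : ProCons.IsProConstructible E) : ProCons.IsProConstructible (f.base '' E) := by
  refine isPro_iff.2 fun W => ?_
  obtain ⟨t, ht, htW, hcov⟩ := exists_finite_affine_cover (f.isCompact_preimage W.2.isCompact)
    (f ⁻¹ᵁ W.1).isOpen subset_rfl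
  have e : (Subtype.val ⁻¹' (f.base '' E) : Set ↥W.1) =
      ⋃ V : t, rmap f V.1 W (htW V.1 V.2) '' (Subtype.val ⁻¹' E) := by
    ext y
    constructor
    · rintro ⟨x, hxE, hxy⟩
      obtain ⟨V, hV, hxV⟩ := mem_iUnion₂.1
        (hcov (show f.base x ∈ W.1 by rw [hxy]; exact y.2))
      exact mem_iUnion.2 ⟨⟨V, hV⟩, ⟨x, hxV⟩, hxE, Subtype.ext hxy⟩
    · rintro hy
      obtain ⟨V, z, hz, rfl⟩ := mem_iUnion.1 hy
      exact ⟨z.1, hz, rfl⟩
  have := ht.to_subtype
  unfold ConsClosedOn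
  rw [e]
  exact @isClosed_iUnion_of_finite _ _ (constructibleTopology ↥W.1) _ _ fun V =>
    SpecSp.isClosed_cons_image (isSpectralMap_rmap f V.1 W _) (isPro_iff.1 h V.1)

theorem mem_interior_iff_generizations {E : Set X} (hE : ProCons.IsIndConstructible E) (x : X) :
    x ∈ interior E ↔ ∀ x' : X, x' ⤳ x → x' ∈ E := by
  refine ⟨fun h x' hx' => interior_subset (hx'.mem_open isOpen_interior h), fun h => ?_⟩
  obtain ⟨U, hxU, -⟩ := exists_affine_mem_subset (X := X) isOpen_univ (mem_univ x)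
  have hint : (⟨x, hxU⟩ : ↥U.1) ∈ interior (Subtype.val ⁻¹' E : Set ↥U.1) := by
    by_contra hni
    rw [← mem_compl_iff, ← closure_compl] at hni
    obtain ⟨e, he, hex⟩ := SpecSp.exists_specializes_of_mem_closure
      (@IsOpen.isClosed_compl _ (constructibleTopology ↥U.1) _ (isInd_iff.1 hE U)) hni
    exact he (h e.1 (hex.map continuous_subtype_val))
  have := (U.1.isOpen.isOpenMap_subtype_val.preimage_interior_eq_interior_preimage continuous_subtype_val E).symm
  exact (this ▸ hint :)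

theorem isOpenAt_generizations (f : X ⟶ Y) (x : X) (hf : ∀ U ∈ nhds x, f.base '' U ∈ nhds (f.base x))
    (y' : Y) (hy' : y' ⤳ f.base x) : ∃ x' : X, x' ⤳ x ∧ f.base x' = y' := by
  obtain ⟨W, hxW, -⟩ := exists_affine_mem_subset (X := Y) isOpen_univ (mem_univ (f.base x))
  obtain ⟨U, hxU, hU⟩ := exists_affine_mem_subset (f ⁻¹ᵁ W.1).isOpen (show x ∈ f ⁻¹ᵁ W.1 from hxW)
  have hy'W : y' ∈ W.1 := hy'.mem_open W.1.isOpen hxW
  let C : {K : Set ↥U.1 // IsOpen K ∧ IsCompact K ∧ ⟨x, hxU⟩ ∈ K} → Set ↥U.1 :=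
    fun K => K.1 ∩ rmap f U W hU ⁻¹' {⟨y', hy'W⟩}
  obtain ⟨e, he⟩ := SpecSp.nonempty_iInter_of_isClosed_cons C
    (fun K L => by
      obtain ⟨M, h1, h2⟩ := SpecSp.directed_compactOpen_nhds (⟨x, hxU⟩ : ↥U.1) K L
      exact ⟨M, inter_subset_inter_left _ h1, inter_subset_inter_left _ h2⟩)
    (fun K => by
      have hnhds : Subtype.val '' K.1 ∈ nhds x :=
        (U.1.isOpen.isOpenMap_subtype_val _ K.2.1).mem_nhds ⟨⟨x, hxU⟩, K.2.2.2, rfl⟩
      obtain ⟨O, hO, hOo, hyO⟩ := mem_nhds_iff.1 (hf _ hnhds)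
      obtain ⟨_, ⟨z, hz, rfl⟩, hzy⟩ := hO (hy'.mem_open hOo hyO)
      exact ⟨z, hz, Subtype.ext hzy⟩)
    (fun K => @IsClosed.inter _ _ _ (constructibleTopology ↥U.1) (SpecSp.isClopen_cons K.2.1 K.2.2.1).1
      (SpecSp.isClosed_cons_preimage (isSpectralMap_rmap f U W hU) (SpecSp.isClosed_singleton_cons _)))
  simp only [mem_iInter, C, mem_inter_iff] at he
  refine ⟨e.1, ?_, congrArg Subtype.val (he ⟨univ, isOpen_univ, isCompact_univ, mem_univ _⟩).2⟩
  exact (SpecSp.specializes_of_forall_compactOpen (x := (⟨x, hxU⟩ : ↥U.1))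
    (fun K ho hc hxK => (he ⟨K, ho, hc, hxK⟩).1)).map continuous_subtype_val

theorem isOpenAt_of_generizations (f : X ⟶ Y) [LocallyOfFinitePresentation f] (x : X)
    (h : ∀ y' : Y, y' ⤳ f.base x → ∃ x' : X, x' ⤳ x ∧ f.base x' = y') (U : Set X) (hU : U ∈ nhds x) :
    f.base '' U ∈ nhds (f.base x) := by
  obtain ⟨O, hOU, hO, hxO⟩ := mem_nhds_iff.1 hU
  refine Filter.mem_of_superset (mem_interior_iff_mem_nhds.1 ?_) (image_mono hOU)
  rw [mem_interior_iff_generizations (isInd_image f (isInd_of_isOpen hO))]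
  intro y' hy'
  obtain ⟨x', hx', rfl⟩ := h y' hy'
  exact mem_image_of_mem _ (hx'.mem_open hO hxO)

/-- A constructibly compact covering lemma on a quasi-compact scheme. -/
theorem exists_finite_subcover [CompactSpace X] {F : Set X} (hF : ProCons.IsProConstructible F)
    {ι : Type*} (E : ι → Set X) (hE : ∀ i, ProCons.IsIndConstructible (E i)) (h : F ⊆ ⋃ i, E i) :
    ∃ J : Finset ι, F ⊆ ⋃ i ∈ J, E i := by
  classical
  obtain ⟨t, ht, -, hcov⟩ := exists_finite_affine_cover (X := X) isCompact_univ isOpen_univ subset_rfl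
  have hfin : ∀ V : X.affineOpens, ∃ J : Finset ι,
      (Subtype.val ⁻¹' F : Set ↥V.1) ⊆ ⋃ i ∈ J, Subtype.val ⁻¹' E i := fun V =>
    @IsCompact.elim_finite_subcover _ (constructibleTopology ↥V.1) _ ι
      (SpecSp.isCompact_cons (isPro_iff.1 hF V)) (fun i => Subtype.val ⁻¹' E i)
      (fun i => isInd_iff.1 (hE i) V) (by rw [← preimage_iUnion]; exact preimage_mono h)
  choose J hJ using hfin
  refine ⟨ht.toFinset.biUnion J, fun x hx => ?_⟩
  obtain ⟨V, hV, hxV⟩ := mem_iUnion₂.1 (hcov (mem_univ x))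
  obtain ⟨i, hi, hxi⟩ := mem_iUnion₂.1 (hJ V (show (⟨x, hxV⟩ : ↥V.1) ∈ Subtype.val ⁻¹' F from hx))
  exact mem_iUnion₂.2 ⟨i, Finset.mem_biUnion.2 ⟨V, ht.mem_toFinset.2 hV, hi⟩, hxi⟩

end Groth.Agent.ProConsLib
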