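import Groth.Agent.ProConsLib.Affine
import Groth.Agent.AlgSpLib.LocP
import Mathlib.RingTheory.Spectrum.Prime.ConstructibleSet
import Mathlib.AlgebraicGeometry.Fiber

/-!
# Constructible sets as images; the locus of surjective fibres
-/

set_option autoImplicit false
universe u

open CategoryTheory CategoryTheory.Limits AlgebraicGeometry Topology TopologicalSpace Set PrimeSpectrum

namespace Groth.Agent.ProConsLib

attribute [local instance] spectralSpace_affine spectralSpace_affine_set

theorem exists_finitePresentation_range {R : Type u} [CommRing R] (C : BasicConstructibleSetData R) :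
    ∃ (S : Type u) (_ : CommRing S) (φ : R →+* S), φ.FinitePresentation ∧ range (comap φ) = C.toSet := by
  let I := Ideal.span (range C.g)
  let f := Ideal.Quotient.mk I C.f
  refine ⟨Localization.Away f, inferInstance, (algebraMap _ (Localization.Away f)).comp (Ideal.Quotient.mk I),
    RingHom.FinitePresentation.comp (RingHom.finitePresentation_algebraMap.2
      (IsLocalization.Away.finitePresentation f))
      (RingHom.FinitePresentation.of_surjective _ Ideal.Quotient.mk_surjective (by
        rw [Ideal.mk_ker]; exact Submodule.fg_span (Set.finite_range _))), ?_⟩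
  rw [PrimeSpectrum.comap_comp]
  erw [Set.range_comp]
  rw [localization_away_comap_range _ f, ← comap_basicOpen, TopologicalSpace.Opens.coe_comap,
    ContinuousMap.coe_mk, Set.image_preimage_eq_inter_range,
    range_comap_of_surjective _ _ Ideal.Quotient.mk_surjective, BasicConstructibleSetData.toSet,
    Set.sdiff_eq_compl_inter, basicOpen_eq_zeroLocus_compl, Ideal.mk_ker, zeroLocus_span]

theorem exists_affine_fp_range_eq {X : Scheme.{u}} [CompactSpace X] [QuasiSeparatedSpace X] {Z : Set X}
    (hZ : IsConstructible Z) :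
    ∃ (X' : Scheme.{u}) (f : X' ⟶ X), IsAffine X' ∧ LocallyOfFinitePresentation f ∧ QuasiCompact f ∧
      QuasiSeparated f ∧ range f.base = Z := by
  classical
  obtain ⟨t, ht, -, hcov⟩ := exists_finite_affine_cover (X := X) isCompact_univ isOpen_univ subset_rfl
  have hoi : ∀ U : X.affineOpens, IsOpenImmersion U.2.fromSpec := fun U => U.2.isOpenImmersion_fromSpec
  have key : ∀ U : X.affineOpens, ∃ S : ConstructibleSetData Γ(X, U.1),
      S.toSet = (U.2.fromSpec.base ⁻¹' Z : Set (PrimeSpectrum Γ(X, U.1))) := fun U =>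
    exists_constructibleSetData_iff.2
      (hZ.isLocallyConstructible.preimage_of_isOpenEmbedding U.2.fromSpec.isOpenEmbedding).isConstructible
  choose S hS using key
  have hloc : IsZariskiLocalAtSource @LocallyOfFinitePresentation := HasRingHomProperty.instIsZariskiLocalAtSource
  have := ht.to_subtype
  let κ := Σ U : t, ↥(S U.1)
  choose B hB φ hφ hφr using fun c : κ => exists_finitePresentation_range c.2.1
  let W : κ → Scheme.{u} := fun c => Spec (CommRingCat.of (B c))
  let g : ∀ c : κ, W c ⟶ X := fun c => Spec.map (CommRingCat.ofHom (φ c)) ≫ c.1.1.2.fromSpec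
  have hg : ∀ c, LocallyOfFinitePresentation (g c) := fun c => by
    have : LocallyOfFinitePresentation (Spec.map (CommRingCat.ofHom (φ c))) :=
      (HasRingHomProperty.Spec_iff (P := @LocallyOfFinitePresentation)).2 (hφ c)
    have : IsOpenImmersion c.1.1.2.fromSpec := c.1.1.2.isOpenImmersion_fromSpec
    exact inferInstance
  have hrange : ∀ c : κ, range (g c).base = c.1.1.2.fromSpec.base '' c.2.1.toSet := fun c => by
    rw [Scheme.Hom.comp_base, TopCat.coe_comp, range_comp]
    exact congrArg (fun s => c.1.1.2.fromSpec.base '' s) (hφr c)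
  refine ⟨∐ W, Sigma.desc g, inferInstance, IsZariskiLocalAtSource.sigmaDesc hg, inferInstance, inferInstance, ?_⟩
  ext x
  constructor
  · rintro ⟨z, rfl⟩
    obtain ⟨c, w, rfl⟩ : ∃ (c : κ) (w : W c), (Sigma.ι W c).base w = z := (sigmaOpenCover W).exists_eq z
    rw [← Scheme.Hom.comp_apply, Sigma.ι_desc]
    obtain ⟨p, hp, hpe⟩ := (hrange c).le ⟨w, rfl⟩
    have : p ∈ (S c.1.1).toSet := mem_iUnion₂.2 ⟨c.2.1, c.2.2, hp⟩
    rw [hS] at this
    exact hpe ▸ this
  · intro hx
    obtain ⟨U, hU, hxU⟩ := mem_iUnion₂.1 (hcov (mem_univ x))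
    obtain ⟨p, hp⟩ : x ∈ range U.2.fromSpec.base := by rw [U.2.range_fromSpec]; exact hxU
    have : p ∈ (S U).toSet := by rw [hS]; show U.2.fromSpec.base p ∈ Z; rw [hp]; exact hx
    obtain ⟨C, hC, hpC⟩ := mem_iUnion₂.1 this
    obtain ⟨w, hw⟩ := (hrange ⟨⟨U, hU⟩, ⟨C, hC⟩⟩).ge ⟨p, hpC, hp⟩
    exact ⟨(Sigma.ι W ⟨⟨U, hU⟩, ⟨C, hC⟩⟩).base w, by rw [← Scheme.Hom.comp_apply, Sigma.ι_desc]; exact hw⟩

theorem isLocallyConstructible_fibre_surjective {X Y S : Scheme.{u}} (f : X ⟶ Y) (g : Y ⟶ S)
    [LocallyOfFinitePresentation g] [QuasiCompact g] [QuasiSeparated g]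
    [LocallyOfFinitePresentation (f ≫ g)] [QuasiCompact (f ≫ g)] :
    IsLocallyConstructible {s : S |
      Function.Surjective (pullback.lift (pullback.fst (f ≫ g) (S.fromSpecResidueField s) ≫ f)
          (pullback.snd (f ≫ g) (S.fromSpecResidueField s)) ((Category.assoc _ _ _).trans pullback.condition) :
        pullback (f ≫ g) (S.fromSpecResidueField s) ⟶ pullback g (S.fromSpecResidueField s)).base} := by
  have : LocallyOfFinitePresentation f := AlgSpLib.locallyOfFinitePresentation_of_comp f g ‹_› inferInstance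
  have : QuasiCompact f := MorphismProperty.of_postcomp (W := @QuasiCompact) (W' := @QuasiSeparated) f g ‹_› ‹_›
  suffices h : {s : S | Function.Surjective (pullback.lift (pullback.fst (f ≫ g) (S.fromSpecResidueField s) ≫ f)
      (pullback.snd (f ≫ g) (S.fromSpecResidueField s)) ((Category.assoc _ _ _).trans pullback.condition) :
        pullback (f ≫ g) (S.fromSpecResidueField s) ⟶ pullback g (S.fromSpecResidueField s)).base} =
      (g.base '' (f.base '' univ)ᶜ)ᶜ by
    rw [h]
    exact isLocallyConstructible_compl (g.isLocallyConstructible_image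
      (isLocallyConstructible_compl (f.isLocallyConstructible_image .univ)))
  ext s
  rw [mem_ofPred_eq, mem_compl_iff]
  set L := pullback.lift (pullback.fst (f ≫ g) (S.fromSpecResidueField s) ≫ f)
      (pullback.snd (f ≫ g) (S.fromSpecResidueField s)) ((Category.assoc _ _ _).trans pullback.condition)
  have hL : ∀ z, (g.fiberι s).base (L.base z) = f.base (((f ≫ g).fiberι s).base z) := fun z =>
    congrArg (fun h : (f ≫ g).fiber s ⟶ Y => h.base z) (pullback.lift_fst _ _ _)
  constructor
  · rintro hsurj ⟨y, hy, hys⟩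
    obtain ⟨w, hw⟩ : y ∈ range (g.fiberι s).base := by rw [g.range_fiberι s]; exact hys
    obtain ⟨z, hz⟩ := hsurj w
    exact hy ⟨((f ≫ g).fiberι s).base z, trivial, by rw [← hL, hz]; exact hw⟩
  · intro hn w
    have hw : g.base ((g.fiberι s).base w) = s := (g.range_fiberι s).le ⟨w, rfl⟩
    obtain ⟨x, -, hx⟩ : (g.fiberι s).base w ∈ f.base '' univ := by
      by_contra h; exact hn ⟨_, h, hw⟩
    obtain ⟨z, hz⟩ : x ∈ range ((f ≫ g).fiberι s).base := by
      rw [(f ≫ g).range_fiberι s]
      show (f ≫ g).base x = s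
      rw [Scheme.Hom.comp_apply, hx, hw]
    exact ⟨z, (g.fiberι s).isEmbedding.injective (((hL z).trans ((congrArg f.base hz).trans hx)))⟩

end Groth.Agent.ProConsLib
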