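import Groth.Agent.ProConsLib.Basic
import Mathlib.RingTheory.Algebraic.Integral
import Mathlib.RingTheory.Ideal.GoingUp
import Mathlib.RingTheory.Jacobson.Ring

/-!
# The image of a morphism of finite type contains a neighbourhood of the generic point
-/

set_option autoImplicit false
universe u

open CategoryTheory AlgebraicGeometry Topology TopologicalSpace Set TensorProduct

namespace Groth.Agent.ProConsLib

theorem exists_prime_over_of_isIntegral_pow {A D : Type u} [CommRing A] [CommRing D] [Algebra A D]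
    (hinj : Function.Injective (algebraMap A D)) (a : A)
    (hD : ∀ d : D, ∃ n : ℕ, IsIntegral A (a ^ n • d)) (P : Ideal A) [P.IsPrime] (ha : a ∉ P) :
    ∃ Q : Ideal D, Q.IsPrime ∧ Q.comap (algebraMap A D) = P := by
  let C := integralClosure A D
  obtain ⟨Q', -, hQ', hP⟩ := Ideal.exists_ideal_over_prime_of_isIntegral (S := C) P ⊥ (by
    intro x hx
    have : algebraMap A D x = 0 := congrArg Subtype.val (Ideal.mem_bot.1 hx)
    rw [hinj (this.trans (map_zero _).symm)]
    exact P.zero_mem)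
  have haQ : ∀ n : ℕ, algebraMap A C (a ^ n) ∉ Q' := fun n h => by
    have h' : a ^ n ∈ Q'.comap (algebraMap A C) := h
    rw [hP] at h'
    exact ha (Ideal.IsPrime.mem_of_pow_mem inferInstance n h')
  have hmove : ∀ (d : D) (n m : ℕ) (hn : IsIntegral A (a ^ n • d)) (hm : IsIntegral A (a ^ m • d)),
      (⟨_, hn⟩ : C) ∈ Q' → (⟨_, hm⟩ : C) ∈ Q' := fun d n m hn hm h => by
    have e : algebraMap A C (a ^ n) * ⟨_, hm⟩ = algebraMap A C (a ^ m) * (⟨_, hn⟩ : C) := Subtype.ext (by
      show algebraMap A D (a ^ n) * (a ^ m • d) = algebraMap A D (a ^ m) * (a ^ n • d)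
      rw [← Algebra.smul_def, ← Algebra.smul_def, smul_comm])
    have h2 : algebraMap A C (a ^ n) * ⟨_, hm⟩ ∈ Q' := e ▸ Q'.mul_mem_left _ h
    exact (hQ'.mem_or_mem h2).resolve_left (haQ n)
  choose ν hν using hD
  let Q : Ideal D :=
    { carrier := {d | (⟨_, hν d⟩ : C) ∈ Q'}
      zero_mem' := by
        have : (⟨_, hν 0⟩ : C) = 0 := Subtype.ext (smul_zero _)
        show _ ∈ Q'
        rw [this]; exact Q'.zero_mem
      add_mem' := fun {d e} hd he => by
        have hd' : IsIntegral A (a ^ (ν d + ν e) • d) := by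
          rw [add_comm, pow_add, mul_smul]; exact (hν d).smul _
        have he' : IsIntegral A (a ^ (ν d + ν e) • e) := by
          rw [pow_add, mul_smul]; exact (hν e).smul _
        have hsum : IsIntegral A (a ^ (ν d + ν e) • (d + e)) := by rw [smul_add]; exact hd'.add he'
        refine hmove _ _ _ hsum (hν _) ?_
        have : (⟨_, hsum⟩ : C) = ⟨_, hd'⟩ + ⟨_, he'⟩ := Subtype.ext (smul_add _ _ _)
        rw [this]
        exact Q'.add_mem (hmove _ _ _ (hν d) hd' hd) (hmove _ _ _ (hν e) he' he)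
      smul_mem' := fun c d hd => by
        have hcd : IsIntegral A (a ^ (ν c + ν d) • (c * d)) := by
          rw [pow_add, ← smul_mul_smul_comm]; exact (hν c).mul (hν d)
        refine hmove _ _ _ hcd (hν _) ?_
        have : (⟨_, hcd⟩ : C) = ⟨_, hν c⟩ * ⟨_, hν d⟩ := Subtype.ext (by
          show a ^ (ν c + ν d) • (c * d) = (a ^ ν c • c) * (a ^ ν d • d)
          rw [pow_add, smul_mul_smul_comm])
        rw [this]
        exact Q'.mul_mem_left _ hd }
  refine ⟨Q, ⟨fun h => ?_, fun {c d} hcd => ?_⟩, ?_⟩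
  · have h1 : (⟨_, hν 1⟩ : C) ∈ Q' := (h ▸ Submodule.mem_top : (1 : D) ∈ Q)
    have : (⟨_, hν 1⟩ : C) = algebraMap A C (a ^ ν 1) := Subtype.ext (Algebra.algebraMap_eq_smul_one _).symm
    exact haQ _ (this ▸ h1)
  · have h1 : IsIntegral A (a ^ (ν c + ν d) • (c * d)) := by
      rw [pow_add, ← smul_mul_smul_comm]; exact (hν c).mul (hν d)
    have h2 := hmove _ _ _ (hν _) h1 hcd
    have : (⟨_, h1⟩ : C) = ⟨_, hν c⟩ * ⟨_, hν d⟩ := Subtype.ext (by
      show a ^ (ν c + ν d) • (c * d) = (a ^ ν c • c) * (a ^ ν d • d)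
      rw [pow_add, smul_mul_smul_comm])
    exact hQ'.mem_or_mem (this ▸ h2)
  · ext x
    show (⟨_, hν (algebraMap A D x)⟩ : C) ∈ Q' ↔ _
    have : (⟨_, hν (algebraMap A D x)⟩ : C) = algebraMap A C (a ^ ν (algebraMap A D x) * x) :=
      Subtype.ext (by
        show a ^ ν (algebraMap A D x) • algebraMap A D x = algebraMap A D (_ * x)
        rw [map_mul, Algebra.smul_def])
    rw [this, map_mul]
    exact ⟨fun h => hP ▸ ((hQ'.mem_or_mem h).resolve_left (haQ _) : x ∈ Q'.comap (algebraMap A C)),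
      fun h => Q'.mul_mem_left _ (show x ∈ Q'.comap (algebraMap A C) by rw [hP]; exact h)⟩

/-- Near a point of the image with a nonempty fibre, the closure of the point is covered. -/
theorem exists_inter_zeroLocus_subset_range {A B : Type u} [CommRing A] [CommRing B] [Algebra A B]
    [Algebra.FiniteType A B] (q : PrimeSpectrum B) :
    ∃ a : A, a ∉ (PrimeSpectrum.comap (algebraMap A B) q).asIdeal ∧
      ∀ P : PrimeSpectrum A, (PrimeSpectrum.comap (algebraMap A B) q).asIdeal ≤ P.asIdeal → a ∉ P.asIdeal →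
        P ∈ range (PrimeSpectrum.comap (algebraMap A B)) := by
  classical
  set p := (PrimeSpectrum.comap (algebraMap A B) q).asIdeal with hp
  have : q.asIdeal.LiesOver p := ⟨rfl⟩
  let T := p.ResidueField ⊗[A] B
  let χ : T →ₐ[A] q.asIdeal.ResidueField :=
    Algebra.TensorProduct.lift (Ideal.ResidueField.mapₐ p q.asIdeal (Algebra.ofId A B) rfl)
      (IsScalarTower.toAlgHom A B q.asIdeal.ResidueField) fun _ _ => Commute.all _ _
  have : Nontrivial T := χ.toRingHom.domain_nontrivial
  obtain ⟨M, hM⟩ := Ideal.exists_maximal T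
  let ι : B →ₐ[A] T ⧸ M :=
    (Ideal.Quotient.mkₐ A M).comp Algebra.TensorProduct.includeRight
  have hfin : Module.Finite p.ResidueField (T ⧸ M) :=
    letI := Ideal.Quotient.field M
    finite_of_finite_type_of_isJacobsonRing _ _
  let q' : Ideal B := RingHom.ker ι
  have : q'.IsPrime := RingHom.ker_isPrime _
  have hq' : q'.comap (algebraMap A B) = p := by
    ext x
    show ι (algebraMap A B x) = 0 ↔ _
    rw [AlgHom.commutes, IsScalarTower.algebraMap_apply A p.ResidueField, map_eq_zero,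
      Ideal.algebraMap_residueField_eq_zero]
  let D := B ⧸ q'
  let j : D →ₐ[A] T ⧸ M := Ideal.kerLiftAlg ι
  have hj : Function.Injective j := Ideal.kerLiftAlg_injective ι
  have halg : ∀ d : D, ∃ s : A, s ∉ p ∧ IsIntegral A (s • d) := fun d => by
    have hint : IsIntegral p.ResidueField (j d) := Algebra.IsIntegral.isIntegral _
    obtain ⟨P, hPm, hP⟩ := hint
    let A' := A ⧸ p
    have : IsFractionRing A' p.ResidueField := inferInstance
    obtain ⟨⟨s, hs⟩, hsP⟩ := IsLocalization.exist_integer_multiples_of_finset (nonZeroDivisors A')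
      (Finset.image P.coeff (Finset.range (P.natDegree + 1)))
    obtain ⟨s', rfl⟩ := Ideal.Quotient.mk_surjective s
    have hs' : s' ∉ p := fun h => nonZeroDivisors.ne_zero hs (Ideal.Quotient.eq_zero_iff_mem.2 h)
    refine ⟨s', hs', (isIntegral_algHom_iff j hj).1 ?_⟩
    rw [map_smul]
    have hco : ∀ i, ∃ x : A, algebraMap A p.ResidueField x = algebraMap A p.ResidueField s' * P.coeff i := by
      intro i
      by_cases hi : i ∈ Finset.range (P.natDegree + 1)
      · obtain ⟨x, hx⟩ := hsP _ (Finset.mem_image_of_mem _ hi)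
        obtain ⟨x, rfl⟩ := Ideal.Quotient.mk_surjective x
        exact ⟨x, by rw [Algebra.smul_def] at hx; exact hx⟩
      · exact ⟨0, by rw [map_zero, Polynomial.coeff_eq_zero_of_natDegree_lt (by
          simp only [Finset.mem_range, not_lt] at hi; omega), mul_zero]⟩
    choose x hx using hco
    refine ⟨Polynomial.X ^ P.natDegree +
      ∑ i ∈ Finset.range P.natDegree, Polynomial.C (x i * s' ^ (P.natDegree - i - 1)) * Polynomial.X ^ i,
      Polynomial.monic_X_pow_add ((Polynomial.degree_sum_le _ _).trans_lt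
        ((Finset.sup_lt_iff (WithBot.bot_lt_coe _)).2 fun i hi => (Polynomial.degree_C_mul_X_pow_le _ _).trans_lt
          (by exact_mod_cast Finset.mem_range.1 hi))), ?_⟩
    have hPe : j d ^ P.natDegree + ∑ i ∈ Finset.range P.natDegree,
        algebraMap p.ResidueField (T ⧸ M) (P.coeff i) * j d ^ i = 0 := by
      rw [← hP, Polynomial.eval₂_eq_sum_range, Finset.sum_range_succ, hPm.coeff_natDegree, map_one, one_mul, add_comm]
    simp only [Polynomial.eval₂_add, Polynomial.eval₂_finsetSum, Polynomial.eval₂_mul, Polynomial.eval₂_C,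
      Polynomial.eval₂_X_pow]
    rw [← mul_eq_zero_of_right (algebraMap A (T ⧸ M) s' ^ P.natDegree) hPe, mul_add, Finset.mul_sum]
    have hsm : s' • j d = algebraMap A (T ⧸ M) s' * j d := by
      obtain ⟨z, hz⟩ := Ideal.Quotient.mk_surjective (j d)
      rw [← hz]
      show Ideal.Quotient.mk M (s' • z) = Ideal.Quotient.mk M (algebraMap A T s') * Ideal.Quotient.mk M z
      rw [← map_mul, Algebra.smul_def]
    rw [hsm, mul_pow]
    congr 1
    refine Finset.sum_congr rfl fun i hi => ?_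
    have e : algebraMap A (T ⧸ M) (x i) = algebraMap A (T ⧸ M) s' * algebraMap p.ResidueField (T ⧸ M) (P.coeff i) := by
      rw [IsScalarTower.algebraMap_apply A p.ResidueField (T ⧸ M), hx, map_mul,
        ← IsScalarTower.algebraMap_apply A p.ResidueField (T ⧸ M)]
    obtain ⟨r, hr⟩ : ∃ r, P.natDegree = i + r + 1 := ⟨P.natDegree - i - 1, by
      have := Finset.mem_range.1 hi; omega⟩
    rw [map_mul, map_pow, e, show P.natDegree - i - 1 = r by omega, hr]
    ring
  obtain ⟨S, hS⟩ : Algebra.FiniteType A D := Algebra.FiniteType.trans (S := B) inferInstance inferInstance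
  choose t htp hti using halg
  let a := ∏ d ∈ S, t d
  have ha : a ∉ p := fun h => by
    obtain ⟨d, _, hd⟩ := (Ideal.IsPrime.prod_mem_iff (hp := q.isPrime.comap (algebraMap A B))).1 h
    exact htp d hd
  have hD : ∀ d : D, ∃ n : ℕ, IsIntegral A (a ^ n • d) := fun d => by
    have hd : d ∈ Algebra.adjoin A (↑S : Set D) := hS ▸ Algebra.mem_top
    induction hd using Algebra.adjoin_induction with
    | mem z hz =>
      refine ⟨1, ?_⟩
      rw [pow_one, show a = (∏ d ∈ S.erase z, t d) * t z from (Finset.prod_erase_mul _ _ hz).symm, mul_smul]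
      exact (hti z).smul _
    | algebraMap r => exact ⟨0, by rw [pow_zero, one_smul]; exact isIntegral_algebraMap⟩
    | add u v _ _ hu hv =>
      obtain ⟨n, hn⟩ := hu
      obtain ⟨m, hm⟩ := hv
      refine ⟨n + m, ?_⟩
      rw [smul_add]
      refine IsIntegral.add ?_ ?_
      · rw [add_comm, pow_add, mul_smul]; exact hn.smul _
      · rw [pow_add, mul_smul]; exact hm.smul _
    | mul u v _ _ hu hv =>
      obtain ⟨n, hn⟩ := hu
      obtain ⟨m, hm⟩ := hv
      exact ⟨n + m, by rw [pow_add, ← smul_mul_smul_comm]; exact hn.mul hm⟩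
  refine ⟨a, ha, fun P hpP haP => ?_⟩
  -- work over A ⧸ p
  let φ : A ⧸ p →+* D := Ideal.quotientMap q' (algebraMap A B) hq'.ge
  let := φ.toAlgebra
  have : IsScalarTower A (A ⧸ p) D := IsScalarTower.of_algebraMap_eq fun _ => rfl
  let P₁ := P.asIdeal.map (Ideal.Quotient.mk p)
  have : P₁.IsPrime := Ideal.map_isPrime_of_surjective Ideal.Quotient.mk_surjective (by rw [Ideal.mk_ker]; exact hpP)
  have hP₁ : P₁.comap (Ideal.Quotient.mk p) = P.asIdeal := by
    rw [Ideal.comap_map_of_surjective _ Ideal.Quotient.mk_surjective]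
    exact sup_eq_left.2 (le_of_eq_of_le Ideal.mk_ker hpP)
  obtain ⟨Q, hQ, hQP⟩ := exists_prime_over_of_isIntegral_pow (A := A ⧸ p) (D := D)
    (Ideal.quotientMap_injective' (H := hq'.ge) hq'.le) (Ideal.Quotient.mk p a)
    (fun d => by
      obtain ⟨n, hn⟩ := hD d
      refine ⟨n, ?_⟩
      rw [← map_pow, ← Ideal.Quotient.algebraMap_eq, algebraMap_smul]
      exact hn.tower_top)
    P₁ (fun h => haP (hP₁.le h))
  refine ⟨⟨Q.comap (Ideal.Quotient.mk q'), hQ.comap _⟩, PrimeSpectrum.ext ?_⟩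
  rw [← hP₁, ← hQP]
  ext z
  rfl

theorem genericPoint_mem_interior_range {X Y : Scheme.{u}} (f : X ⟶ Y) [LocallyOfFiniteType f]
    [IrreducibleSpace Y] (h : genericPoint Y ∈ range f.base) :
    genericPoint Y ∈ interior (range f.base) := by
  obtain ⟨x, hx⟩ := h
  obtain ⟨W, hxW, -⟩ := exists_affine_mem_subset (X := Y) isOpen_univ (mem_univ (f.base x))
  obtain ⟨V, hxV, hV⟩ := exists_affine_mem_subset (f ⁻¹ᵁ W.1).isOpen (show x ∈ f ⁻¹ᵁ W.1 from hxW)
  have hft := HasRingHomProperty.appLE (P := @LocallyOfFiniteType) f ‹_› W V hV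
  algebraize [(f.appLE W.1 V.1 hV).hom]
  have hcomm : ∀ z, f.base (V.2.fromSpec.base z) =
      W.2.fromSpec.base (PrimeSpectrum.comap (algebraMap Γ(Y, W.1) Γ(X, V.1)) z) := fun z =>
    (congrArg (fun g : Spec Γ(X, V.1) ⟶ Y => g.base z) (W.2.SpecMap_appLE_fromSpec f V.2 hV)).symm
  obtain ⟨q, hq⟩ : x ∈ range V.2.fromSpec.base := by rw [V.2.range_fromSpec]; exact hxV
  have : IsOpenImmersion W.2.fromSpec := W.2.isOpenImmersion_fromSpec
  obtain ⟨a, ha, hsub⟩ := exists_inter_zeroLocus_subset_range (A := Γ(Y, W.1)) q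
  set η := PrimeSpectrum.comap (algebraMap Γ(Y, W.1) Γ(X, V.1)) q
  have hη : W.2.fromSpec.base η = genericPoint Y := by rw [← hcomm, hq, hx]
  refine mem_interior.2 ⟨W.2.fromSpec.base '' (PrimeSpectrum.basicOpen a : Set (PrimeSpectrum Γ(Y, W.1))),
    ?_, W.2.fromSpec.isOpenEmbedding.isOpenMap _ (PrimeSpectrum.basicOpen a).isOpen, ⟨η, ha, hη⟩⟩
  rintro _ ⟨P, hP, rfl⟩
  have hsp : η ⤳ P := W.2.fromSpec.isOpenEmbedding.isEmbedding.isInducing.specializes_iff.1
    (hη ▸ genericPoint_specializes _)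
  obtain ⟨Q, hQ⟩ := hsub P ((PrimeSpectrum.le_iff_specializes _ _).2 hsp) hP
  exact ⟨V.2.fromSpec.base Q, (hcomm Q).trans (congrArg W.2.fromSpec.base hQ)⟩

end Groth.Agent.ProConsLib
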