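import Mathlib.AlgebraicGeometry.Morphisms.FinitePresentation
import Mathlib.Topology.Constructible

/-!
# Preimages of locally constructible sets under morphisms of schemes
-/

open AlgebraicGeometry CategoryTheory Topology

namespace Groth.Agent.ProConsLib

universe u

variable {X Y : Scheme.{u}} (f : X ⟶ Y)

lemma isLocallyConstructible_preimage {s : Set Y} (hs : IsLocallyConstructible s) :
    IsLocallyConstructible (f ⁻¹' s) := by
  intro x
  obtain ⟨U, hU, hUo, hUs⟩ := hs (f x)
  let V : Y.Opens := ⟨U, hUo⟩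
  refine ⟨f ⁻¹' U, (hUo.preimage f.continuous).mem_nhds (mem_of_mem_nhds hU : f x ∈ U),
    hUo.preimage f.continuous, ?_⟩
  have h := (f ∣_ V).isConstructible_preimage hUs
  have e : ((f ∣_ V) ⁻¹' (Subtype.val ⁻¹' s) : Set (f ⁻¹ᵁ V : X.Opens)) = Subtype.val ⁻¹' (f ⁻¹' s) := by
    ext z
    exact iff_of_eq (congrArg (· ∈ s) (morphismRestrict_base_coe f V z))
  exact e ▸ h

end Groth.Agent.ProConsLib
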