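import Groth.Agent.ProConsLib.Affine
import Mathlib.AlgebraicGeometry.Noetherian

/-!
# Ind-constructible subsets of locally Noetherian schemes
-/

set_option autoImplicit false
universe u

open CategoryTheory AlgebraicGeometry Topology TopologicalSpace Set

namespace Groth.Agent.ProConsLib

attribute [local instance] spectralSpace_affine spectralSpace_affine_set

theorem exists_isOpen_inter_closure_subset {X : Scheme.{u}} {E : Set X}
    (hE : ProCons.IsIndConstructible E) {x : X} (hx : x ∈ E) :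
    ∃ O : Set X, IsOpen O ∧ x ∈ O ∧ O ∩ closure {x} ⊆ E := by
  obtain ⟨U, hxU, -⟩ := exists_affine_mem_subset (X := X) isOpen_univ (mem_univ x)
  obtain ⟨K, L, hKo, hKc, hLo, hLc, ⟨hxK, hxL⟩, hsub⟩ :=
    SpecSp.exists_basic_of_isOpen_cons (isInd_iff.1 hE U) (show (⟨x, hxU⟩ : ↥U.1) ∈ Subtype.val ⁻¹' E from hx)
  refine ⟨Subtype.val '' K, U.1.isOpen.isOpenMap_subtype_val _ hKo, ⟨⟨x, hxU⟩, hxK, rfl⟩, ?_⟩
  rintro _ ⟨⟨z, hz, rfl⟩, hcl⟩
  refine hsub ⟨hz, fun hzL => ?_⟩
  have hsp : (⟨x, hxU⟩ : ↥U.1) ⤳ z := (subtype_specializes_iff _ _).2 (specializes_iff_mem_closure.2 hcl)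
  exact hxL (hsp.mem_open hLo hzL)

theorem isInd_iff_nhd_closure {X : Scheme.{u}} [IsLocallyNoetherian X] {E : Set X} :
    ProCons.IsIndConstructible E ↔
      ∀ x ∈ E, (Subtype.val ⁻¹' E : Set ↥(closure ({x} : Set X))) ∈
        nhds (⟨x, subset_closure rfl⟩ : ↥(closure ({x} : Set X))) := by
  constructor
  · intro hE x hx
    obtain ⟨O, hO, hxO, hsub⟩ := exists_isOpen_inter_closure_subset hE hx
    exact mem_nhds_iff.2 ⟨Subtype.val ⁻¹' O, fun z hz => hsub ⟨hz, z.2⟩, hO.preimage continuous_subtype_val, hxO⟩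
  · intro h
    refine isInd_iff.2 fun U => ?_
    unfold ConsOpenOn
    rw [@isOpen_iff_forall_mem_open _ (constructibleTopology ↥U.1) _]
    intro x hx
    obtain ⟨T, hT, hsub⟩ := mem_nhds_subtype _ _ _ |>.1 (h x.1 hx)
    obtain ⟨O, hOT, hO, hxO⟩ := mem_nhds_iff.1 hT
    have : IsNoetherianRing Γ(X, U.1) := IsLocallyNoetherian.component_noetherian U
    have : NoetherianSpace ↥U.1 := noetherianSpace_of_isAffineOpen U.1 U.2
    refine ⟨(Subtype.val ⁻¹' O) ∩ (Subtype.val ⁻¹' closure {x.1}), fun z hz => hsub (a := ⟨z.1, hz.2⟩) (hOT hz.1), ?_,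
      hxO, subset_closure rfl⟩
    exact @IsOpen.inter _ (constructibleTopology ↥U.1) _ _
      (SpecSp.isOpen_cons (hO.preimage continuous_subtype_val))
      (by
        have hcl : IsClosed (Subtype.val ⁻¹' closure {x.1} : Set ↥U.1) := isClosed_closure.preimage continuous_subtype_val
        exact (NoetherianSpace.isCompact _).isOpen_constructibleTopology_of_isClosed hcl)

end Groth.Agent.ProConsLib
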