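import Groth.Agent.ProConsLib.Basic
import Mathlib.RingTheory.Spectrum.Prime.Topology
import Mathlib.AlgebraicGeometry.Limits

/-!
# Images of spectra and the constructible topology of a quasi-separated scheme
-/

set_option autoImplicit false
universe u

open CategoryTheory CategoryTheory.Limits AlgebraicGeometry Topology TopologicalSpace Set

namespace Groth.Agent.ProConsLib

attribute [local instance] spectralSpace_affine spectralSpace_affine_set

theorem isSpectralMap_comap {A B : Type u} [CommRing A] [CommRing B] (φ : A →+* B) :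
    IsSpectralMap (PrimeSpectrum.comap φ) :=
  quasiCompact_iff_isSpectralMap.1
    (inferInstance : QuasiCompact (Spec.map (CommRingCat.ofHom φ)))

theorem isClosed_cons_range {A B : Type u} [CommRing A] [CommRing B] (φ : A →+* B) :
    IsClosed[constructibleTopology (PrimeSpectrum A)] (range (PrimeSpectrum.comap φ)) := by
  rw [← image_univ]
  exact SpecSp.isClosed_cons_image (isSpectralMap_comap φ) (@isClosed_univ _ (constructibleTopology _))

/-- A constructibly closed subset of a spectrum is the range of the spectrum of a product of fields. -/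
theorem exists_range_eq_of_isClosed_cons {A : Type u} [CommRing A] {E : Set (PrimeSpectrum A)}
    (hE : IsClosed[constructibleTopology (PrimeSpectrum A)] E) :
    ∃ (B : Type u) (_ : CommRing B) (φ : A →+* B), range (PrimeSpectrum.comap φ) = E := by
  classical
  let φ : A →+* (∀ p : E, p.1.asIdeal.ResidueField) :=
    RingHom.pi fun p => algebraMap A p.1.asIdeal.ResidueField
  have hmem : ∀ (a : A) (p : E), φ a p = 0 ↔ a ∈ p.1.asIdeal := fun a p =>
    Ideal.algebraMap_residueField_eq_zero
  refine ⟨_, inferInstance, φ, Subset.antisymm ?_ fun p hp => ?_⟩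
  · rintro _ ⟨Q, rfl⟩
    by_contra hq
    obtain ⟨U, V, hUo, hUc, hVo, hVc, ⟨hqU, hqV⟩, hsub⟩ :=
      SpecSp.exists_basic_of_isOpen_cons (@IsClosed.isOpen_compl _ (constructibleTopology _) E hE)
        (mem_compl hq)
    obtain ⟨_, ⟨f, rfl⟩, hf, hfU⟩ :=
      (PrimeSpectrum.isTopologicalBasis_basic_opens (R := A)).exists_subset_of_mem_open hqU hUo
    obtain ⟨s, hs, rfl⟩ := (isCompact_open_iff_eq_finite_iUnion_of_isTopologicalBasis
      (fun g : A => (PrimeSpectrum.basicOpen g : Set (PrimeSpectrum A)))
      PrimeSpectrum.isTopologicalBasis_basic_opens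
      (fun g => PrimeSpectrum.isCompact_basicOpen g) V).1 ⟨hVc, hVo⟩
    have hfQ : φ f ∉ Q.asIdeal := hf
    have hgQ : ∀ g ∈ s, φ g ∈ Q.asIdeal := fun g hg => by
      by_contra h
      exact hqV (mem_iUnion₂.2 ⟨g, hg, h⟩)
    have key : ∀ p : E, f ∈ p.1.asIdeal ∨ ∃ g ∈ s, g ∉ p.1.asIdeal := fun p => by
      by_contra h
      push Not at h
      refine hsub ⟨hfU h.1, fun hV => ?_⟩ p.2
      obtain ⟨g, hg, hpg⟩ := mem_iUnion₂.1 hV
      exact hpg (h.2 g hg)
    have key' : ∀ p : E, ∃ c : A → p.1.asIdeal.ResidueField, φ f p = ∑ g ∈ hs.toFinset, c g * φ g p := by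
      intro p
      rcases key p with h | ⟨g, hg, hgp⟩
      · exact ⟨0, by simp [(hmem f p).2 h]⟩
      · refine ⟨fun a => if a = g then φ f p / φ g p else 0, ?_⟩
        rw [Finset.sum_eq_single g (fun a _ ha => by simp [ha]) (fun h => absurd (hs.mem_toFinset.2 hg) h)]
        simp only [↓reduceIte]
        rw [div_mul_cancel₀ _ (fun h0 => hgp ((hmem g p).1 h0))]
    choose c hc using key'
    have : φ f = ∑ g ∈ hs.toFinset, (fun p => c p g) * φ g := by
      funext p
      rw [hc p, Finset.sum_apply]
      rfl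
    exact hfQ (this ▸ Ideal.sum_mem _ fun g hg => Ideal.mul_mem_left _ _ (hgQ g (hs.mem_toFinset.1 hg)))
  · refine ⟨PrimeSpectrum.comap (Pi.evalRingHom (fun q : E => q.1.asIdeal.ResidueField) ⟨p, hp⟩)
      ⟨⊥, Ideal.isPrime_bot⟩, ?_⟩
    apply PrimeSpectrum.ext
    ext a
    exact hmem a ⟨p, hp⟩

/-- Constructibly closed subsets are intersections of constructible subsets. -/
theorem exists_sInter_iff {α : Type*} [TopologicalSpace α] [SpectralSpace α] {E : Set α} :
    IsClosed[constructibleTopology α] E ↔
      ∃ S : Set (Set α), (∀ s ∈ S, IsConstructible s) ∧ E = ⋂₀ S := by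
  constructor
  · intro hE
    refine ⟨{s | IsConstructible s ∧ E ⊆ s}, fun s hs => hs.1,
      Subset.antisymm (subset_sInter fun s hs => hs.2) fun x hx => ?_⟩
    by_contra hxE
    obtain ⟨U, V, hUo, hUc, hVo, hVc, hxUV, hsub⟩ :=
      SpecSp.exists_basic_of_isOpen_cons (@IsClosed.isOpen_compl _ (constructibleTopology α) E hE)
        (mem_compl hxE)
    exact hx (U \ V)ᶜ ⟨((hUc.isConstructible hUo).sdiff (hVc.isConstructible hVo)).compl,
      subset_compl_comm.1 hsub⟩ hxUV
  · rintro ⟨S, hS, rfl⟩
    exact @isClosed_sInter _ (constructibleTopology α) _ fun s hs =>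
      (SpecSp.isClopen_cons_of_isConstructible (hS s hs)).1

section QS

variable {X : Scheme.{u}} [QuasiSeparatedSpace X]

theorem isClopen_cons_qs {K : Set X} (ho : IsOpen K) (hc : IsCompact K) :
    @IsClopen X (constructibleTopology X) K :=
  ⟨@IsClosed.mk X (constructibleTopology X) K
    ((show IsCompact Kᶜᶜ by rwa [compl_compl]).isOpen_constructibleTopology_of_isClosed
      ho.isClosed_compl), hc.isOpen_constructibleTopology_of_isOpen ho⟩

theorem continuous_val_cons (U : X.affineOpens) :
    @Continuous _ _ (constructibleTopology ↥U.1) (constructibleTopology X) (Subtype.val : ↥U.1 → X) := by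
  refine (@continuous_generateFrom_iff _ _ _ (constructibleTopology ↥U.1) (constructibleTopologySubbasis X)).2 ?_
  have hpre : ∀ K : Set X, IsOpen K → IsCompact K → IsCompact (Subtype.val ⁻¹' K : Set ↥U.1) :=
    fun K ho hc => by
      rw [IsInducing.subtypeVal.isCompact_iff]
      have : (Subtype.val '' (Subtype.val ⁻¹' K) : Set X) = K ∩ (U.1 : Set X) :=
        image_preimage_eq_inter_range.trans (by rw [Subtype.range_coe])
      refine (congrArg IsCompact this).mpr ?_
      exact hc.inter_of_isOpen U.2.isCompact ho U.1.isOpen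
  rintro s (⟨ho, hc⟩ | ⟨hcl, hc⟩)
  · exact (SpecSp.isClopen_cons (ho.preimage continuous_subtype_val) (hpre s ho hc)).2
  · have := (SpecSp.isClopen_cons (hcl.isOpen_compl.preimage continuous_subtype_val)
      (hpre _ hcl.isOpen_compl hc)).1
    simpa using this.isOpen_compl

theorem isOpen_cons_iff_isInd {E : Set X} :
    IsOpen[constructibleTopology X] E ↔ ProCons.IsIndConstructible E := by
  refine ⟨fun h => isInd_iff.2 fun U => @IsOpen.preimage _ _ (constructibleTopology ↥U.1)
    (constructibleTopology X) _ (continuous_val_cons U) _ h, fun h => ?_⟩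
  rw [@isOpen_iff_forall_mem_open X (constructibleTopology X) _]
  intro x hx
  obtain ⟨U, hxU, -⟩ := exists_affine_mem_subset (X := X) isOpen_univ (mem_univ x)
  obtain ⟨K, L, hKo, hKc, hLo, hLc, hmem, hsub⟩ :=
    SpecSp.exists_basic_of_isOpen_cons (isInd_iff.1 h U) (show (⟨x, hxU⟩ : ↥U.1) ∈ Subtype.val ⁻¹' E from hx)
  refine ⟨Subtype.val '' (K \ L), image_subset_iff.2 hsub, ?_, ⟨⟨x, hxU⟩, hmem, rfl⟩⟩
  rw [image_sdiff Subtype.val_injective]
  exact @IsOpen.sdiff X _ _ (constructibleTopology X)
    (isClopen_cons_qs (U.1.isOpen.isOpenMap_subtype_val _ hKo) (hKc.image continuous_subtype_val)).2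
    (isClopen_cons_qs (U.1.isOpen.isOpenMap_subtype_val _ hLo) (hLc.image continuous_subtype_val)).1

theorem isClosed_cons_iff_isPro {E : Set X} :
    IsClosed[constructibleTopology X] E ↔ ProCons.IsProConstructible E := by
  rw [isPro_iff_isInd_compl, ← isOpen_cons_iff_isInd]
  exact (@isOpen_compl_iff _ _ (constructibleTopology X)).symm

theorem isClopen_affine (U : X.affineOpens) : @IsClopen X (constructibleTopology X) (U.1 : Set X) :=
  isClopen_cons_qs U.1.isOpen U.2.isCompact

theorem isCompact_cons_affine (U : X.affineOpens) :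
    @IsCompact X (constructibleTopology X) (U.1 : Set X) := by
  have := @IsCompact.image _ _ (constructibleTopology ↥U.1) (constructibleTopology X) univ Subtype.val
    (@isCompact_univ _ (constructibleTopology ↥U.1) SpecSp.compactSpace_cons) (continuous_val_cons U)
  rwa [image_univ, Subtype.range_coe] at this

theorem isCompact_cons_of_compactOpen {K : Set X} (ho : IsOpen K) (hc : IsCompact K) :
    @IsCompact X (constructibleTopology X) K := by
  obtain ⟨t, ht, htK, hcov⟩ := exists_finite_affine_cover hc ho subset_rfl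
  have e : K = ⋃ V ∈ t, (V.1 : Set X) := Subset.antisymm hcov (iUnion₂_subset htK)
  rw [e]
  exact @Set.Finite.isCompact_biUnion X _ (constructibleTopology X) _ _ ht fun V _ => isCompact_cons_affine V

theorem totallySeparated_cons_qs : @TotallySeparatedSpace X (constructibleTopology X) := by
  refine (@totallySeparatedSpace_iff_exists_isClopen X (constructibleTopology X)).2 fun x y hxy => ?_
  have : ¬ Inseparable x y := fun hh => hxy hh.eq
  rw [inseparable_iff_forall_isOpen] at this
  push Not at this
  obtain ⟨W, hW, hW'⟩ := this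
  rcases hW' with ⟨hx, hy⟩ | ⟨hx, hy⟩
  · obtain ⟨U, hxU, hUW⟩ := exists_affine_mem_subset hW hx
    exact ⟨U.1, isClopen_affine U, hxU, fun h => hy (hUW h)⟩
  · obtain ⟨U, hyU, hUW⟩ := exists_affine_mem_subset hW hy
    exact ⟨(U.1 : Set X)ᶜ, @IsClopen.compl X (constructibleTopology X) _ (isClopen_affine U),
      fun h => hx (hUW h), fun h => h hyU⟩

theorem t2_cons_qs : @T2Space X (constructibleTopology X) :=
  @TotallySeparatedSpace.t2Space X (constructibleTopology X) totallySeparated_cons_qs

theorem weaklyLocallyCompact_cons : @WeaklyLocallyCompactSpace X (constructibleTopology X) :=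
  @WeaklyLocallyCompactSpace.mk X (constructibleTopology X) fun x => by
    obtain ⟨U, hxU, -⟩ := exists_affine_mem_subset (X := X) isOpen_univ (mem_univ x)
    exact ⟨U.1, isCompact_cons_affine U, @IsOpen.mem_nhds X (constructibleTopology X) x _ (isClopen_affine U).2 hxU⟩

theorem exists_compactOpen_superset {K : Set X} (hK : @IsCompact X (constructibleTopology X) K) :
    ∃ V : Set X, IsOpen V ∧ IsCompact V ∧ K ⊆ V := by
  choose U hxU using fun x : X => (exists_affine_mem_subset (X := X) isOpen_univ (mem_univ x)).imp fun U h => h.1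
  obtain ⟨s, hs⟩ := @IsCompact.elim_finite_subcover X (constructibleTopology X) K _ hK
    (fun x => ((U x).1 : Set X)) (fun x => (isClopen_affine (U x)).2)
    (fun x _ => mem_iUnion.2 ⟨x, hxU x⟩)
  exact ⟨_, isOpen_biUnion fun x _ => (U x).1.isOpen,
    s.finite_toSet.isCompact_biUnion fun x _ => (U x).2.isCompact, hs⟩

variable {Y : Scheme.{u}} [QuasiSeparatedSpace Y]

theorem quasiCompact_iff_isProperMap (f : X ⟶ Y) :
    QuasiCompact f ↔ @IsProperMap X Y (constructibleTopology X) (constructibleTopology Y) f := by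
  constructor
  · intro hf
    have hcont : @Continuous X Y (constructibleTopology X) (constructibleTopology Y) f.base :=
      @Continuous.mk X Y (constructibleTopology X) (constructibleTopology Y) f.base fun E hE =>
        isOpen_cons_iff_isInd.2 (isInd_preimage f (isOpen_cons_iff_isInd.1 hE))
    refine (@isProperMap_iff_ultrafilter_of_t2 X Y (constructibleTopology X) (constructibleTopology Y) _
      t2_cons_qs).2 ⟨hcont, fun 𝒰 y hy => ?_⟩
    obtain ⟨K, hK, hKy⟩ := @WeaklyLocallyCompactSpace.exists_compact_mem_nhds Y (constructibleTopology Y)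
      weaklyLocallyCompact_cons y
    obtain ⟨V, hVo, hVc, hKV⟩ := exists_compactOpen_superset hK
    have hcpt : @IsCompact X (constructibleTopology X) (f.base ⁻¹' K) :=
      @IsCompact.of_isClosed_subset X (constructibleTopology X) _ _
        (isCompact_cons_of_compactOpen (hVo.preimage f.continuous)
          (QuasiCompact.isCompact_preimage V hVo hVc))
        (@IsClosed.preimage X Y (constructibleTopology X) (constructibleTopology Y) _ hcont _
          (@IsCompact.isClosed Y (constructibleTopology Y) t2_cons_qs _ hK))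
        (preimage_mono hKV)
    obtain ⟨x, -, hx⟩ := @IsCompact.ultrafilter_le_nhds X (constructibleTopology X) _ hcpt 𝒰
      (Filter.le_principal_iff.2 (hy hKy))
    exact ⟨x, hx⟩
  · intro hf
    refine ⟨fun V hVo hVc => ?_⟩
    have h := @IsProperMap.isCompact_preimage X Y (constructibleTopology X) (constructibleTopology Y) _ hf _
      (isCompact_cons_of_compactOpen hVo hVc)
    have h2 := @IsCompact.image X X (constructibleTopology X) _ _ id h (continuous_id_of_le SpecSp.cons_le)
    simpa using h2

theorem exists_isAffine_range_eq [CompactSpace X] {E : Set X} (hE : ProCons.IsProConstructible E) :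
    ∃ (X' : Scheme.{u}) (f : X' ⟶ X), IsAffine X' ∧ range f.base = E := by
  obtain ⟨t, ht, -, hcov⟩ := exists_finite_affine_cover (X := X) isCompact_univ isOpen_univ subset_rfl
  have key : ∀ U : X.affineOpens, ∃ (Z : Scheme.{u}) (g : Z ⟶ X), IsAffine Z ∧ range g.base = E ∩ (U.1 : Set X) := by
    intro U
    let j := U.2.fromSpec
    have hcl : IsClosed[constructibleTopology (PrimeSpectrum Γ(X, U.1))] (j.base ⁻¹' E) :=
      isClosed_cons_iff_isPro.2 (isPro_preimage j hE)
    obtain ⟨B, _, φ, hφ⟩ := exists_range_eq_of_isClosed_cons hcl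
    refine ⟨Spec (CommRingCat.of B), Spec.map (CommRingCat.ofHom φ) ≫ j, inferInstance, ?_⟩
    rw [Scheme.Hom.comp_base, TopCat.coe_comp, range_comp]
    refine (congrArg (fun s => j.base '' s) hφ).trans ?_
    exact image_preimage_eq_inter_range.trans (congrArg (E ∩ ·) U.2.range_fromSpec)
  choose Z g hZ hg using key
  have := ht.to_subtype
  refine ⟨∐ fun U : t => Z U, Sigma.desc fun U : t => g U, ?_, ?_⟩
  · have : ∀ U : t, IsAffine (Z U) := fun U => hZ U
    infer_instance
  · ext x
    constructor
    · rintro ⟨z, rfl⟩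
      obtain ⟨U, w, rfl⟩ : ∃ (U : t) (w : Z U), (Sigma.ι (fun U : t => Z U) U).base w = z :=
        (sigmaOpenCover fun U : t => Z U).exists_eq z
      rw [← Scheme.Hom.comp_apply, Sigma.ι_desc]
      exact ((hg U.1).le ⟨w, rfl⟩).1
    · intro hx
      obtain ⟨U, hU, hxU⟩ := mem_iUnion₂.1 (hcov (mem_univ x))
      obtain ⟨w, hw⟩ := (hg U).ge ⟨hx, hxU⟩
      exact ⟨(Sigma.ι (fun U : t => Z U) ⟨U, hU⟩).base w, by rw [← Scheme.Hom.comp_apply, Sigma.ι_desc]; exact hw⟩

theorem isPro_iff_exists_isAffine [CompactSpace X] (E : Set X) :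
    ProCons.IsProConstructible E ↔
      ∃ (X' : Scheme.{u}) (f : X' ⟶ X), IsAffine X' ∧ range f.base = E := by
  refine ⟨exists_isAffine_range_eq, ?_⟩
  rintro ⟨X', f, _, rfl⟩
  rw [← image_univ]
  exact isPro_image f isPro_univ

theorem isPro_iff_exists_sInter [CompactSpace X] (E : Set X) :
    ProCons.IsProConstructible E ↔ ∃ S : Set (Set X), (∀ s ∈ S, IsConstructible s) ∧ E = ⋂₀ S := by
  have : SpectralSpace X := {}
  rw [← isClosed_cons_iff_isPro, exists_sInter_iff]

end QS

end Groth.Agent.ProConsLib
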